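import Groth.Agent.QCTopos.Objects

/-!
Sheafified representables and quasi-compactness on the site.
-/

set_option backward.isDefEq.respectTransparency false
set_option backward.isDefEq.respectTransparency.types false
set_option linter.style.haveILetI false
set_option linter.unusedSectionVars false
set_option autoImplicit false
set_option maxHeartbeats 1000000

universe u w

namespace Groth.Agent.QCTopos

open CategoryTheory Limits Opposite
open ToposFin
open Groth.Agent.PullFlat (Loc univ rep_loc_surj rep_loc_inj)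

variable {C : Type u} [SmallCategory C] {J : GrothendieckTopology C}

/-- covers of two objects cover their fibre product -/
lemma js_prod {A B Y : Sh J} (a : A ⟶ Y) (b : B ⟶ Y) {ι : Type w} {κ : Type w} {F : ι → Sh J} {G : κ → Sh J}
    {π : ∀ i, F i ⟶ A} {ρ : ∀ k, G k ⟶ B} (hπ : JS π) (hρ : JS ρ) :
    JS fun p : ι × κ => pullback.map (π p.1 ≫ a) (ρ p.2 ≫ b) a b (π p.1) (ρ p.2) (𝟙 Y)
      (Category.comp_id _) (Category.comp_id _) := by
  intro U s
  refine (hπ U (app (pullback.fst a b) s)).bind ?_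
  rintro V k ⟨i, t, ht⟩
  refine (hρ V (res k (app (pullback.snd a b) s))).mono ?_
  rintro W k' ⟨i', t', ht'⟩
  obtain ⟨q, h₁, h₂⟩ := exists_pullback_el (π i ≫ a) (ρ i' ≫ b) (res k' t) t' (by
    rw [app_comp, app_comp, ht', app_res (π i), ht]
    simp only [app_res, pullback_el_condition])
  refine ⟨(i, i'), q, pullback_el_ext _ _ ?_ ?_⟩
  · rw [← app_comp, pullback.lift_fst, app_comp, h₁, app_res, ht, app_res, res_comp]
  · rw [← app_comp, pullback.lift_snd, app_comp, h₂, ht', app_res, res_comp]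

variable (J) in
/-- a map of the site between sheafified representables -/
noncomputable abbrev εmap {V X : C} (g : V ⟶ X) : eps J V ⟶ eps J X :=
  (presheafToSheaf J (Type u)).map (yoneda.map g)

lemma εmap_univ {V X : C} (g : V ⟶ X) : app (εmap J g) (univ J V) = res g (univ J X) := by
  have h1 := ConcreteCategory.congr_hom (congrArg (fun τ : yoneda.obj V ⟶ (eps J X).obj => τ.app (op V))
    (toSheafify_naturality J (yoneda.map g))) (𝟙 V)
  refine h1.symm.trans ?_
  refine Eq.trans ?_ (NatTrans.naturality_apply (toSheafify J (yoneda.obj X)) g.op (𝟙 X))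
  refine congrArg ((toSheafify J (yoneda.obj X)).app (op V)) ?_
  exact (Category.id_comp g).trans (Category.comp_id g).symm

lemma εmap_res {V X U : C} (g : V ⟶ X) (a : U ⟶ V) : app (εmap J g) (res a (univ J V)) = res (a ≫ g) (univ J X) := by
  rw [app_res, εmap_univ, res_comp]
  all_goals rfl

lemma js_εmap {X : C} {ι : Type w} (V : ι → C) (g : ∀ i, V i ⟶ X) (hg : Sieve.ofArrows V g ∈ J X) :
    JS fun i => εmap J (g i) := by
  intro U s
  refine (rep_loc_surj (L := J) (V := X) s).bind ?_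
  rintro U' r ⟨l, hl⟩
  refine (Loc.of_mem (J.pullback_stable l hg)).mono ?_
  intro U'' h hh
  obtain ⟨i, a, ha⟩ := (Sieve.mem_ofArrows_iff ..).mp hh
  refine ⟨i, res a (univ J (V i)), ?_⟩
  refine (εmap_res _ a).trans ?_
  rw [← ha, ← res_comp l h]
  exact (congrArg (fun x => res h x) hl).trans (res_comp _ _ _)

lemma qc_eps_iff (X : C) : IsQC (eps J X) ↔ IsQCSite J X := by
  classical
  constructor
  · intro h S hS
    let ι : Type u := Σ V : C, {g : V ⟶ X // S g}
    have hJS : JS fun p : ι => εmap J p.2.1 := by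
      refine js_εmap (fun p : ι => p.1) (fun p => p.2.1) (J.superset_covering ?_ hS)
      intro V g hg
      exact (Sieve.mem_ofArrows_iff ..).2 ⟨⟨V, g, hg⟩, 𝟙 _, (Category.id_comp g).symm⟩
    obtain ⟨s, hs⟩ := qc_iff.1 h ι _ _ hJS
    let e := s.equivFin
    refine ⟨s.card, fun k => (e.symm k).1.1, fun k => (e.symm k).1.2.1, fun k => (e.symm k).1.2.2, ?_⟩
    suffices hloc : Loc J X fun W h => Sieve.ofArrows (fun k => (e.symm k).1.1) (fun k => (e.symm k).1.2.1) h by
      obtain ⟨T, hT, hT'⟩ := hloc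
      exact J.superset_covering (fun W h hh => hT' h hh) hT
    refine (hs X (univ J X)).bind ?_
    rintro U h ⟨p, t, ht⟩
    refine (rep_loc_surj (L := J) (V := p.1.1) t).bind ?_
    rintro U' r ⟨l, hl⟩
    have h2 : res (l ≫ p.1.2.1) (univ J X) = res (r ≫ h) (univ J X) := by
      refine (εmap_res _ l).symm.trans ((congrArg (app _) hl).trans ((app_res _ r t).trans ?_))
      exact (congrArg (fun x => res r x) ht).trans (res_comp _ _ _)
    refine (rep_loc_inj (L := J) _ _ h2).mono ?_
    intro U'' r' hr'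
    refine (Sieve.mem_ofArrows_iff ..).2 ⟨e p, r' ≫ l ≫ eqToHom (by simp), ?_⟩
    have key : ∀ q : s, q = p → ∀ (h : p.1.1 = q.1.1), eqToHom h ≫ q.1.2.1 = p.1.2.1 := by
      rintro q rfl h
      simp
    rw [Category.assoc]
    refine hr'.symm.trans ?_
    simp only [Category.assoc, key _ (e.symm_apply_apply p)]
  · intro h
    rw [qc_iff]
    intro ι F π hπ
    obtain ⟨S, hS, hS'⟩ := hπ X (univ J X)
    obtain ⟨n, V, g, hg, hcov⟩ := h S hS
    choose i t ht using fun k => hS' (g k) (hg k)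
    refine ⟨Finset.univ.image i, ?_⟩
    refine JS.of_factor (js_εmap V g hcov) (fun k => ⟨i k, Finset.mem_image.2 ⟨k, Finset.mem_univ k, rfl⟩⟩)
      (fun k => toEl (t k)) fun k => toEl_ext ?_
    rw [εmap_univ, app_comp, toEl_univ]
    exact ht k

lemma genBy_eps : GenBy (J := J) fun K => ∃ V, K = eps J V := fun X =>
  ⟨Σ U : C, el X U, fun p => eps J p.1, fun p => toEl p.2, fun p => ⟨p.1, rfl⟩, js_el X⟩

variable (hC : ∀ X : C, IsQCSite J X)

include hC in
lemma genBy_qc : GenBy (J := J) IsQC := fun X =>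
  ⟨Σ U : C, el X U, fun p => eps J p.1, fun p => toEl p.2, fun p => (qc_eps_iff p.1).2 (hC p.1), js_el X⟩

include hC in
lemma exists_site_refine {V X : C} (s : eps J V ⟶ eps J X) :
    ∃ (n : ℕ) (W : Fin n → C) (g : ∀ k, W k ⟶ V) (l : ∀ k, W k ⟶ X),
      Sieve.ofArrows W g ∈ J V ∧ ∀ k, εmap J (g k) ≫ s = εmap J (l k) := by
  obtain ⟨S, hS, hS'⟩ := rep_loc_surj (L := J) (V := X) (app s (univ J V))
  obtain ⟨n, W, g, hg, hcov⟩ := hC V S hS
  choose l hl using fun k => hS' (g k) (hg k)
  refine ⟨n, W, g, l, hcov, fun k => toEl_ext ?_⟩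
  rw [app_comp, εmap_univ, εmap_univ, app_res]
  exact (hl k).symm

variable [HasPullbacks C]

lemma isPullback_eps {A B X : C} (a : A ⟶ X) (b : B ⟶ X) :
    IsPullback (εmap J (pullback.fst a b)) (εmap J (pullback.snd a b)) (εmap J a) (εmap J b) :=
  ((IsPullback.of_hasPullback a b).map yoneda).map (presheafToSheaf J (Type u))

include hC in
theorem qs_eps (X : C) : IsQS (eps J X) := by
  refine qs_of_gen genBy_eps ?_
  rintro K s ⟨V, rfl⟩
  refine qchom_of_gen genBy_eps ?_
  rintro K s' ⟨V', rfl⟩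
  obtain ⟨n, W, g, l, hcov, hl⟩ := exists_site_refine hC s
  obtain ⟨n', W', g', l', hcov', hl'⟩ := exists_site_refine hC s'
  refine qc_of_finite_js (js_prod s s' (js_εmap W g hcov) (js_εmap W' g' hcov')) fun p => ?_
  refine qc_of_iso ?_ ((qc_eps_iff (pullback (l p.1) (l' p.2))).2 (hC _))
  exact (isPullback_eps (l p.1) (l' p.2)).isoPullback ≪≫ pullback.congrHom (hl p.1).symm (hl' p.2).symm

include hC in
theorem coherent_eps (X : C) : IsCoherent (eps J X) :=
  ⟨(qc_eps_iff X).2 (hC X), qs_eps hC X⟩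

include hC in
theorem qshom_to_eps {G : Sh J} {X : C} (g : G ⟶ eps J X) (hG : IsQS G) : IsQSHom g := by
  let ι : Type u := Σ U : C, {p : el G U × (U ⟶ X) // app g p.1 = res p.2 (univ J X)}
  have hcov : JS fun p : ι => toEl p.2.1.1 := by
    intro U s
    refine (rep_loc_surj (L := J) (V := X) (app g s)).mono ?_
    rintro U' r ⟨l, hl⟩
    exact ⟨⟨U', (res r s, l), by rw [app_res]; exact hl.symm⟩, univ J U', toEl_univ _⟩
  have hl : ∀ p : ι, toEl p.2.1.1 ≫ g = εmap J p.2.1.2 := fun p => toEl_ext (by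
    rw [app_comp, toEl_univ, εmap_univ, p.2.2])
  refine qshom_of_qs (genBy_qc hC) hcov (fun p => (qc_eps_iff _).2 (hC _)) (fun p q => ?_) hG
  exact qs_of_iso ((isPullback_eps p.2.1.2 q.2.1.2).isoPullback ≪≫ pullback.congrHom (hl p).symm (hl q).symm) (qs_eps hC _)

end Groth.Agent.QCTopos
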