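import Groth.Agent.QCTopos.Objects
import Mathlib.CategoryTheory.Limits.Preserves.Shapes.Pullbacks

/-!
Algebraic and locally coherent topoi; coherent inverse image functors.
-/

set_option backward.isDefEq.respectTransparency false
set_option backward.isDefEq.respectTransparency.types false
set_option linter.style.haveILetI false
set_option linter.unusedSectionVars false
set_option autoImplicit false
set_option maxHeartbeats 1000000

universe u w

namespace Groth.Agent.QCTopos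

open CategoryTheory Limits Opposite
open ToposFin

variable {C : Type u} [SmallCategory C] {J : GrothendieckTopology C} {X Y : Sh J}

/-- morphisms out of quasi-separated objects are quasi-separated -/
theorem qshom_of_qs_of_products {P : Sh J → Prop} (hP : GenBy P) (hqc : ∀ K, P K → IsQC K)
    (hprod : ∀ K L, P K → P L → IsQS (K ⨯ L)) (f : X ⟶ Y) (hX : IsQS X) : IsQSHom f := by
  obtain ⟨ι, F, π, hF, hπ⟩ := hP X
  refine qshom_of_qs (genBy_of_hasQCGenerators (hasQCGenerators_of_genBy hP hqc)) hπ (fun i => hqc _ (hF i))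
    (fun i j => ?_) hX
  haveI : Mono (prod.lift (pullback.fst (π i ≫ f) (π j ≫ f)) (pullback.snd (π i ≫ f) (π j ≫ f))) :=
    ⟨fun a b h => pullback.hom_ext
      (by simpa using congrArg (· ≫ (prod.fst : F i ⨯ F j ⟶ F i)) h)
      (by simpa using congrArg (· ≫ (prod.snd : F i ⨯ F j ⟶ F j)) h)⟩
  exact qs_of_mono (prod.lift (pullback.fst (π i ≫ f) (π j ≫ f)) (pullback.snd (π i ≫ f) (π j ≫ f))) (hprod _ _ (hF i) (hF j))

variable {S : Set (Sh J)}

lemma qs_of_mem (hqc : ∀ K ∈ S, IsQC K) (hgen : IsGenerating S) (hpb : ClosedUnderPullbacks S) {K : Sh J} (hK : K ∈ S) :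
    IsQS K := by
  refine qs_of_gen (genBy_of_isGenerating hgen) fun M s hM => qchom_of_gen (genBy_of_isGenerating hgen) fun N t hN => ?_
  obtain ⟨P, p, q, hP, hpq⟩ := hpb s t hM hN hK
  exact qc_of_iso hpq.isoPullback (hqc P hP)

lemma qs_prod_of_mem (hqc : ∀ K ∈ S, IsQC K) (hgen : IsGenerating S) (hpb : ClosedUnderPullbacks S)
    (heq : ClosedUnderEqualizers S) {K L : Sh J} (hK : K ∈ S) (hL : L ∈ S) : IsQS (K ⨯ L) := by
  refine qs_of_gen (genBy_of_isGenerating hgen) fun M s hM => qchom_of_gen (genBy_of_isGenerating hgen) fun N t hN => ?_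
  obtain ⟨P, p, q, hP, hpq⟩ := hpb (s ≫ prod.fst) (t ≫ prod.fst) hM hN hK
  obtain ⟨E, e, w, hE, ⟨he⟩⟩ := heq (p ≫ s ≫ prod.snd) (q ≫ t ≫ prod.snd) hP hL
  have hw : (e ≫ p) ≫ s = (e ≫ q) ≫ t := by
    apply prod.hom_ext
    · simp only [Category.assoc]
      rw [hpq.w]
    · simp only [Category.assoc]
      exact w
  refine qc_of_iso (IsPullback.isoPullback (fst := e ≫ p) (snd := e ≫ q) ⟨⟨hw⟩, ⟨PullbackCone.IsLimit.mk _
    (fun c => Fork.IsLimit.lift he (hpq.lift c.fst c.snd ?_) ?_) ?_ ?_ ?_⟩⟩) (hqc E hE)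
  · simpa using congrArg (· ≫ prod.fst) c.condition
  · rw [hpq.lift_fst_assoc, hpq.lift_snd_assoc]
    simpa using congrArg (· ≫ prod.snd) c.condition
  · intro c
    rw [← Category.assoc]
    erw [Fork.IsLimit.lift_ι' he]
    exact hpq.lift_fst _ _ _
  · intro c
    rw [← Category.assoc]
    erw [Fork.IsLimit.lift_ι' he]
    exact hpq.lift_snd _ _ _
  · intro c l h₁ h₂
    refine Fork.IsLimit.hom_ext he ?_
    erw [Fork.IsLimit.lift_ι' he]
    refine hpq.hom_ext ?_ ?_
    · rw [hpq.lift_fst, ← h₁]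
      exact Category.assoc _ _ _
    · rw [hpq.lift_snd, ← h₂]
      exact Category.assoc _ _ _

lemma genBy_qc_of_isAlgebraic (hE : IsAlgebraic J) : GenBy (J := J) IsQC := by
  obtain ⟨S, hqc, hgen, -, -⟩ := hE
  exact genBy_of_hasQCGenerators (hasQCGenerators_of_genBy (genBy_of_isGenerating hgen) hqc)

lemma qshom_of_qs_of_algebraic (hE : IsAlgebraic J) (f : X ⟶ Y) (hX : IsQS X) : IsQSHom f := by
  obtain ⟨S, hqc, hgen, hpb, heq⟩ := hE
  exact qshom_of_qs_of_products (genBy_of_isGenerating hgen) hqc (fun K L => qs_prod_of_mem hqc hgen hpb heq) f hX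

lemma qc_of_qchom {f : X ⟶ Y} (hf : IsQCHom f) (hY : IsQC Y) : IsQC X :=
  qc_of_iso (asIso (pullback.fst f (𝟙 Y))) (hf Y (𝟙 Y) hY)

lemma coherent_iff_of_algebraic (hE : IsAlgebraic J) (f : X ⟶ Y) (hY : IsCoherent Y) :
    IsCoherent X ↔ IsCohHom f :=
  ⟨fun h => ⟨qchom_of_qc_to_qs f h.1 hY.2, qshom_of_qs_of_algebraic hE f h.2⟩,
    fun h => ⟨qc_of_qchom h.1 hY.1, qs_of_qshom h.2 hY.2⟩⟩

section Functor

variable {D : Type u} [SmallCategory D] {K : GrothendieckTopology D} {F : Sh K ⥤ Sh J} {R : Sh J ⥤ Sh K}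
  (adj : F ⊣ R)

include adj in
lemma js_map {ι : Type w} {G : ι → Sh K} {A : Sh K} {π : ∀ i, G i ⟶ A} (h : JS π) : JS fun i => F.map (π i) :=
  js_of_cancel fun Z a b hab => (adj.homEquiv A Z).injective (h.cancel fun i => by
    rw [← adj.homEquiv_naturality_left, ← adj.homEquiv_naturality_left, hab])

include adj in
lemma qc_map {T : Set (Sh K)} (hgen : IsGenerating T) (h : ∀ L ∈ T, IsQC (F.obj L)) {A : Sh K} (hA : IsQC A) :
    IsQC (F.obj A) := by
  obtain ⟨ι, hι, G, π, hG, hπ⟩ := (genBy_of_isGenerating hgen).exists_finite hA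
  haveI := hι
  exact qc_of_finite_js (js_map adj hπ) fun i => h _ (hG i)

variable [PreservesFiniteLimits F]

include adj in
lemma qs_map (hE : GenBy (J := J) IsQC) {T : Set (Sh K)} (hT : ∀ L ∈ T, IsCoherent L) (hgen : IsGenerating T)
    (hF : ∀ L ∈ T, IsCoherent (F.obj L)) {A : Sh K} (hA : IsQS A) : IsQS (F.obj A) := by
  obtain ⟨ι, G, π, hG, hπ⟩ := genBy_of_isGenerating hgen A
  have hqc : ∀ i, IsQCHom (F.map (π i)) := by
    intro j
    refine qchom_of_local (js_map adj hπ) (fun W _ i b => hE _) fun i => ?_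
    refine qchom_of_qc_to_qs _ ?_ (hF _ (hG i)).2
    exact qc_of_iso (((IsPullback.of_hasPullback (π j) (π i)).map F).isoPullback)
      (qc_map adj hgen (fun L hL => (hF L hL).1) (hA _ _ _ _ (hT _ (hG j)).1 (hT _ (hG i)).1))
  exact qs_of_cover (js_map adj hπ) (fun i => (hF _ (hG i)).2) hqc

end Functor

end Groth.Agent.QCTopos
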