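import Groth.Agent.QCTopos.Basic
import Mathlib.CategoryTheory.Limits.Types.Filtered
import Mathlib.CategoryTheory.Limits.Preserves.FunctorCategory

/-!
Quasi-compactness through maps into filtered colimits.
-/

set_option backward.isDefEq.respectTransparency false
set_option backward.isDefEq.respectTransparency.types false
set_option linter.style.haveILetI false
set_option linter.unusedSectionVars false
set_option autoImplicit false
set_option maxHeartbeats 1000000

universe u

namespace Groth.Agent.QCTopos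

open CategoryTheory Limits Opposite
open ToposFin
open Groth.Agent.PullFlat (Loc univ)

variable {C : Type u} [SmallCategory C] {J : GrothendieckTopology C}

lemma loc_inj_colim {I : Type u} [SmallCategory I] [IsFiltered I] (D : I ⥤ Sh J) {i : I} {U : C} (x y : el (D.obj i) U)
    (h : app (colimit.ι D i) x = app (colimit.ι D i) y) :
    Loc J U fun V g => ∃ (j : I) (a : i ⟶ j), app (D.map a) (res g x) = app (D.map a) (res g y) := by
  let c' := colimit.cocone (D ⋙ sheafToPresheaf J (Type u))
  let T : Sh J := (presheafToSheaf J (Type u)).obj c'.pt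
  let d : Cocone D :=
    { pt := T
      ι :=
        { app := fun j => ⟨c'.ι.app j ≫ toSheafify J c'.pt⟩
          naturality := fun j k f => Sheaf.hom_ext (by
            show (D.map f).hom ≫ c'.ι.app k ≫ toSheafify J c'.pt = (c'.ι.app j ≫ toSheafify J c'.pt) ≫ 𝟙 _
            rw [Category.comp_id, ← Category.assoc]
            exact congrArg (· ≫ _) (c'.w f)) } }
  have h' : app (d.ι.app i) x = app (d.ι.app i) y := by
    rw [← show colimit.ι D i ≫ colimit.desc D d = d.ι.app i from colimit.ι_desc d i, app_comp, app_comp, h]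
  refine (Loc.of_mem (Presheaf.equalizerSieve_mem J (toSheafify J c'.pt) (X := op U) ((c'.ι.app i).app (op U) x)
    ((c'.ι.app i).app (op U) y) h')).mono ?_
  intro V g hg
  have hl := isColimitOfPreserves ((evaluation Cᵒᵖ (Type u)).obj (op V)) (colimit.isColimit (D ⋙ sheafToPresheaf J (Type u)))
  have hg' : c'.pt.map g.op ((c'.ι.app i).app (op U) x) = c'.pt.map g.op ((c'.ι.app i).app (op U) y) := hg
  obtain ⟨j, a, hj⟩ := (Types.FilteredColimit.isColimit_eq_iff' hl (i := i) (res g x) (res g y)).1 (by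
    show (c'.ι.app i).app (op V) (res g x) = (c'.ι.app i).app (op V) (res g y)
    exact (NatTrans.naturality_apply (c'.ι.app i) g.op x).trans
      (Eq.trans hg' (NatTrans.naturality_apply (c'.ι.app i) g.op y).symm))
  exact ⟨j, a, hj⟩

lemma exists_common {I : Type u} [SmallCategory I] [IsFiltered I] {i : I} (T : Finset (Σ j, i ⟶ j)) :
    ∃ (k : I) (f : i ⟶ k), ∀ p ∈ T, ∃ c : p.1 ⟶ k, p.2 ≫ c = f := by
  classical
  induction T using Finset.induction with
  | empty => exact ⟨i, 𝟙 i, fun p hp => absurd hp (Finset.notMem_empty p)⟩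
  | @insert p T _ ih =>
    obtain ⟨k, f, hf⟩ := ih
    obtain ⟨k', a, b, hab⟩ := IsFiltered.span f p.2
    refine ⟨k', f ≫ a, fun q hq => ?_⟩
    rcases Finset.mem_insert.1 hq with rfl | hq'
    · exact ⟨b, hab.symm⟩
    · obtain ⟨c, hc⟩ := hf q hq'
      exact ⟨c ≫ a, by rw [← Category.assoc, hc]⟩

theorem injective_post_of_qc {X : Sh J} (hX : IsQC X) (I : Type u) [SmallCategory I] [IsFiltered I] (D : I ⥤ Sh J) :
    Function.Injective (colimit.post D (coyoneda.obj (op X))) := by
  intro z z' hz
  obtain ⟨i, a, rfl⟩ := Types.jointly_surjective' z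
  obtain ⟨i', b, rfl⟩ := Types.jointly_surjective' z'
  let k := IsFiltered.max i i'
  let a' : X ⟶ D.obj k := (show X ⟶ D.obj i from a) ≫ D.map (IsFiltered.leftToMax i i')
  let b' : X ⟶ D.obj k := (show X ⟶ D.obj i' from b) ≫ D.map (IsFiltered.rightToMax i i')
  have hab : a' ≫ colimit.ι D k = b' ≫ colimit.ι D k := by
    have e1 := ConcreteCategory.congr_hom (colimit.ι_post D (coyoneda.obj (op X)) i) a
    have e2 := ConcreteCategory.congr_hom (colimit.ι_post D (coyoneda.obj (op X)) i') b
    simp only [a', b', Category.assoc, colimit.w]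
    exact (e1.symm.trans (hz.trans e2) :)
  let E : (Σ j, k ⟶ j) → Sh J := fun p => equalizer (a' ≫ D.map p.2) (b' ≫ D.map p.2)
  have hJS : JS (F := E) (X := X) fun p : (Σ j, k ⟶ j) => equalizer.ι (a' ≫ D.map p.2) (b' ≫ D.map p.2) := by
    intro U s
    refine (loc_inj_colim D (app a' s) (app b' s) (by rw [← app_comp, ← app_comp, hab])).mono ?_
    rintro V g ⟨j, f, hf⟩
    refine ⟨⟨j, f⟩, app (equalizer.lift (toEl (res g s)) ?_) (univ J V), ?_⟩
    · rw [toEl_comp, toEl_comp]
      refine congrArg toEl ?_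
      rw [app_comp a', app_comp b', app_res a', app_res b']
      exact hf
    · rw [← app_comp, equalizer.lift_ι, toEl_univ]
  obtain ⟨T, hT⟩ := qc_iff.1 hX _ E _ hJS
  obtain ⟨m, f, hf⟩ := exists_common T
  have he : a' ≫ D.map f = b' ≫ D.map f := hT.cancel fun p => by
    obtain ⟨c, hc⟩ := hf p.1 p.2
    simp only [← hc, Functor.map_comp]
    have := congrArg (· ≫ D.map c) (equalizer.condition (a' ≫ D.map p.1.2) (b' ≫ D.map p.1.2))
    simpa using this
  refine (Types.FilteredColimit.colimit_eq_iff (F := D ⋙ coyoneda.obj (op X))).2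
    ⟨m, IsFiltered.leftToMax i i' ≫ f, IsFiltered.rightToMax i i' ≫ f, ?_⟩
  show (show X ⟶ D.obj i from a) ≫ D.map _ = (show X ⟶ D.obj i' from b) ≫ D.map _
  simpa [a', b'] using he

theorem qc_of_injective_post {X : Sh J}
    (h : ∀ (I : Type u) [SmallCategory I] [IsFiltered I] (D : I ⥤ Sh J),
      Function.Injective (colimit.post D (coyoneda.obj (op X)))) : IsQC X := by
  classical
  intro ι F π hπ
  let d : ∀ T : Finset ι, (∐ fun i : T => F i) ⟶ X := fun T => Sigma.desc fun i => π i
  have hd : ∀ {T T' : Finset ι}, T ≤ T' → d T ≫ pushout.inl (d T') (d T') = d T ≫ pushout.inr (d T') (d T') := by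
    intro T T' hTT'
    refine Sigma.hom_ext _ _ fun i => ?_
    have := congrArg (Sigma.ι (fun i : T' => F i) ⟨i.1, hTT' i.2⟩ ≫ ·) (pushout.condition (f := d T') (g := d T'))
    simp only [d, Sigma.ι_desc_assoc] at this ⊢
    exact this
  let D : Finset ι ⥤ Sh J :=
    { obj := fun T => pushout (d T) (d T)
      map := fun {T T'} f => pushout.desc (pushout.inl _ _) (pushout.inr _ _) (hd f.le)
      map_id := fun T => by apply pushout.hom_ext <;> simp
      map_comp := fun f g => by apply pushout.hom_ext <;> simp }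
  have heq : pushout.inl (d ∅) (d ∅) ≫ colimit.ι D ∅ = pushout.inr (d ∅) (d ∅) ≫ colimit.ι D ∅ := by
    refine (epi_desc_iff.1 hπ).cancel fun i => ?_
    have e := colimit.w D (homOfLE (Finset.empty_subset {i}) : (∅ : Finset ι) ⟶ {i})
    rw [← e]
    have hc := congrArg (Sigma.ι (fun j : ({i} : Finset ι) => F j) ⟨i, Finset.mem_singleton_self i⟩ ≫ ·)
      (pushout.condition (f := d {i}) (g := d {i}))
    simp only [d, Sigma.ι_desc_assoc] at hc
    simp only [D, pushout.inl_desc_assoc, pushout.inr_desc_assoc]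
    exact (reassoc_of% hc) _
  have hinj := @h (Finset ι) _ _ D
    (colimit.ι (D ⋙ coyoneda.obj (op X)) ∅ (pushout.inl (d ∅) (d ∅)))
    (colimit.ι (D ⋙ coyoneda.obj (op X)) ∅ (pushout.inr (d ∅) (d ∅))) (by
      refine (ConcreteCategory.congr_hom (colimit.ι_post D (coyoneda.obj (op X)) ∅) _).trans (Eq.trans ?_
        (ConcreteCategory.congr_hom (colimit.ι_post D (coyoneda.obj (op X)) ∅) _).symm)
      exact heq)
  obtain ⟨T, f, g, hfg⟩ := (Types.FilteredColimit.colimit_eq_iff (F := D ⋙ coyoneda.obj (op X))).1 hinj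
  refine ⟨T, ⟨fun u v huv => ?_⟩⟩
  have h1 : pushout.inl (d T) (d T) = pushout.inr (d T) (d T) := by
    have : pushout.inl (d ∅) (d ∅) ≫ D.map f = pushout.inr (d ∅) (d ∅) ≫ D.map g := hfg
    simpa [D] using this
  have := congrArg (· ≫ pushout.desc u v huv) h1
  exact (pushout.inl_desc _ _ _).symm.trans (this.trans (pushout.inr_desc _ _ _))

end Groth.Agent.QCTopos
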