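import Groth.Agent.QCTopos.Basic

/-!
Quasi-separated objects, coproducts and inverse image functors.
-/

set_option backward.isDefEq.respectTransparency false
set_option backward.isDefEq.respectTransparency.types false
set_option linter.style.haveILetI false
set_option linter.unusedSectionVars false
set_option autoImplicit false
set_option maxHeartbeats 1000000

universe u w

namespace Groth.Agent.QCTopos

open CategoryTheory Limits Opposite
open ToposFin
open Groth.Agent.PullFlat (Loc)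

variable {C : Type u} [SmallCategory C] {J : GrothendieckTopology C} {X Y Z : Sh J}

lemma qchom_of_qc_to_qs {A : Sh J} (a : A ⟶ Y) (hA : IsQC A) (hY : IsQS Y) : IsQCHom a :=
  fun W k hW => hY A W a k hA hW

lemma qs_of_mono (i : X ⟶ Y) [Mono i] (hY : IsQS Y) : IsQS X := fun A B a b hA hB =>
  qc_pullback_of_isPullback (f := a ≫ i) (g := b ≫ i) (p := pullback.fst a b) (q := pullback.snd a b)
    ⟨⟨by rw [← Category.assoc, pullback.condition, Category.assoc]⟩,
      ⟨PullbackCone.IsLimit.mk _ (fun s => pullback.lift s.fst s.snd ((cancel_mono i).1 (by simpa using s.condition)))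
        (fun s => pullback.lift_fst _ _ _) (fun s => pullback.lift_snd _ _ _)
        fun s l h₁ h₂ => pullback.hom_ext (by simpa using h₁) (by simpa using h₂)⟩⟩ (hY A B _ _ hA hB)

lemma qs_of_iso (e : X ≅ Y) (h : IsQS X) : IsQS Y := qs_of_mono e.inv h

lemma qs_of_qshom {f : X ⟶ Y} (hf : IsQSHom f) (hY : IsQS Y) : IsQS X := fun A B a b hA hB =>
  qchom_use hf (pullback_map_diagonal_isPullback a b f) (hY A B _ _ hA hB)

lemma qs_pullback {f : X ⟶ Y} {Y' : Sh J} (g : Y' ⟶ Y) (hf : IsQSHom f) (hY' : IsQS Y') : IsQS (pullback f g) :=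
  qs_of_qshom (qshom_snd g hf) hY'

/-- quasi-separation is detected by maps from generators -/
lemma qs_of_gen {P : Sh J → Prop} (hP : GenBy P)
    (h : ∀ (K : Sh J) (s : K ⟶ Y), P K → IsQCHom s) : IsQS Y := by
  intro A B a b hA hB
  obtain ⟨ι, hι, F, π, hF, hπ⟩ := hP.exists_finite hB
  haveI := hι
  refine qc_of_finite_js (hπ.pullback_snd (pullback.snd a b)) fun i => ?_
  have := h (F i) (π i ≫ b) (hF i) A a hA
  exact qc_of_iso ((pullback.congrHom rfl rfl) ≪≫ pullbackSymmetry _ _ ≪≫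
    (pullbackLeftPullbackSndIso a b (π i)).symm ≪≫ pullbackSymmetry _ _) this

/-- generators detect quasi-compact morphisms -/
lemma qchom_of_gen {P : Sh J → Prop} (hP : GenBy P) {f : X ⟶ Y}
    (h : ∀ (K : Sh J) (s : K ⟶ Y), P K → IsQC (pullback f s)) : IsQCHom f := by
  intro W k hW
  obtain ⟨ι, hι, F, π, hF, hπ⟩ := hP.exists_finite hW
  haveI := hι
  refine qc_of_finite_js (hπ.pullback_snd (pullback.snd f k)) fun i => ?_
  exact qc_of_iso ((pullbackLeftPullbackSndIso f k (π i)).symm ≪≫ pullbackSymmetry _ _) (h (F i) (π i ≫ k) (hF i))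

/-- quasi-separation from a cover by coherent objects -/
lemma qs_of_cover {ι : Type u} {Yi : ι → Sh J} {g : ∀ i, Yi i ⟶ Y} (hg : JS g) (hqs : ∀ i, IsQS (Yi i))
    (hqc : ∀ i, IsQCHom (g i)) : IsQS Y := by
  intro A B a b hA hB
  have cov : ∀ {W : Sh J} (k : W ⟶ Y), IsQC W → ∃ (κ : Type u) (_ : Finite κ) (j : κ → ι),
      JS fun x => pullback.fst k (g (j x)) := fun k hW => exists_finite_js hW (hg.pullback_fst k)
  obtain ⟨κ, hκ, j, hja⟩ := cov a hA
  obtain ⟨κ', hκ', j', hjb⟩ := cov b hB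
  haveI := hκ
  haveI := hκ'
  let cA := fun x => pullback.fst a (g (j x))
  let cB := fun x => pullback.fst b (g (j' x))
  let σ := fun q : κ × κ' => pullback.map (cA q.1 ≫ a) (cB q.2 ≫ b) a b (cA q.1) (cB q.2) (𝟙 Y)
    (Category.comp_id _) (Category.comp_id _)
  have hσ : JS σ := by
    intro U s
    refine (hja U (app (pullback.fst a b) s)).bind ?_
    rintro V k ⟨x, t, ht⟩
    refine (hjb V (res k (app (pullback.snd a b) s))).mono ?_
    rintro W k' ⟨y, t', ht'⟩
    obtain ⟨p, hp₁, hp₂⟩ := exists_pullback_el (cA x ≫ a) (cB y ≫ b) (res k' t) t' (by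
      rw [app_comp, app_comp, show app (cB y) t' = _ from ht', app_res, show app (cA x) t = _ from ht]
      simp only [app_res, pullback_el_condition])
    refine ⟨(x, y), p, pullback_el_ext _ _ ?_ ?_⟩
    · rw [← app_comp, pullback.lift_fst, app_comp, hp₁, app_res, show app (cA x) t = _ from ht, app_res, res_comp]
    · rw [← app_comp, pullback.lift_snd, app_comp, hp₂, show app (cB y) t' = _ from ht', app_res, res_comp]
  refine qc_of_finite_js hσ fun q => ?_
  have hP : IsQC (pullback a (g (j q.1))) := qc_of_iso (pullbackSymmetry _ _) (hqc (j q.1) A a hA)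
  have hQ : IsQC (pullback b (g (j' q.2))) := qc_of_iso (pullbackSymmetry _ _) (hqc (j' q.2) B b hB)
  have h1 : IsQCHom (cB q.2 ≫ b) := by
    rw [show cB q.2 ≫ b = pullback.snd b (g (j' q.2)) ≫ g (j' q.2) from pullback.condition]
    exact qchom_comp (qchom_of_qc_to_qs _ hQ (hqs _)) (hqc _)
  exact qc_of_iso (pullbackSymmetry _ _) (h1 _ (cA q.1 ≫ a) hP)

section Coprod

variable {ι : Type u} (F : ι → Sh J)

/-- summands of quasi-compact objects are quasi-compact -/
lemma qc_summand {W : Sh J} (a : W ⟶ ∐ F) (hW : IsQC W) (i : ι) : IsQC (pullback a (Sigma.ι F i)) := by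
  classical
  rw [qc_iff]
  intro κ G σ hσ
  let fam : (κ ⊕ {j : ι // j ≠ i}) → Sh J := Sum.elim G (fun j => pullback a (Sigma.ι F j.1))
  let ρ : ∀ k, fam k ⟶ W := fun k => match k with
    | .inl k => σ k ≫ pullback.fst a (Sigma.ι F i)
    | .inr j => pullback.fst a (Sigma.ι F j.1)
  have hρ : JS ρ := by
    intro U s
    refine ((js_sigma_ι F).pullback_fst a U s).bind ?_
    rintro V g ⟨j, t, ht⟩
    by_cases hj : j = i
    · subst hj
      refine (hσ V t).mono ?_
      rintro V' g' ⟨k, x, hx⟩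
      refine ⟨.inl k, x, ?_⟩
      show app (σ k ≫ pullback.fst a _) x = _
      rw [app_comp, hx, app_res, ht, res_comp]
    · exact Loc.of_forall fun V' g' => ⟨.inr ⟨j, hj⟩, res g' t, by
        show app (pullback.fst a _) (res g' t) = _
        rw [app_res, ht, res_comp]⟩
  obtain ⟨s, hs⟩ := qc_iff.1 hW _ fam ρ hρ
  refine ⟨s.toLeft, fun U x => ?_⟩
  refine (hs U (app (pullback.fst a (Sigma.ι F i)) x)).bind ?_
  rintro V g ⟨⟨k | j, hk⟩, t, ht⟩
  · refine Loc.of_forall fun V' g' => ⟨⟨k, Finset.mem_toLeft.2 hk⟩, res g' t, ?_⟩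
    have h1 : app (pullback.fst a (Sigma.ι F i)) (app (σ k) t) = app (pullback.fst a (Sigma.ι F i)) (res g x) := by
      rw [app_res]
      exact ht
    have h2 : app (σ k) t = res g x := by
      refine pullback_el_ext _ _ h1 (sigma_ι_injective F i _ _ ?_)
      rw [← pullback_el_condition, ← pullback_el_condition, h1]
    rw [app_res, h2, res_comp]
  · refine ⟨⊥, ?_, fun V' g' h => h.elim⟩
    refine sigma_ι_disjoint F j.2 (app (pullback.snd a (Sigma.ι F i)) (res g x)) (app (pullback.snd a (Sigma.ι F j.1)) t) ?_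
    rw [← pullback_el_condition, ← pullback_el_condition]
    refine congrArg (app a) ?_
    rw [app_res]
    exact ht.symm

lemma qchom_sigma_ι (i : ι) : IsQCHom (Sigma.ι F i) := fun W k hW =>
  qc_of_iso (pullbackSymmetry _ _) (qc_summand F k hW i)

lemma qc_sigma_iff : IsQC (∐ F) ↔ (∀ i, IsQC (F i)) ∧ {i | IsEmpty (F i ≅ ⊥_ (Sh J))}.Finite := by
  constructor
  · intro h
    refine ⟨fun i => qc_of_iso (asIso (pullback.snd (𝟙 (∐ F)) (Sigma.ι F i))) (qc_summand F (𝟙 _) h i), ?_⟩
    obtain ⟨s, hs⟩ := qc_iff.1 h ι F _ (js_sigma_ι F)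
    refine s.finite_toSet.subset fun i hi => ?_
    by_contra his
    refine hi.false ?_
    refine ((isInitial_of_isNull (X := F i) fun U t => ?_).some).uniqueUpToIso initialIsInitial
    obtain ⟨S, hS, hS'⟩ := hs U (app (Sigma.ι F i) t)
    refine J.transitive hS _ fun V g hg => ?_
    obtain ⟨⟨j, hj⟩, t', ht'⟩ := hS' g hg
    rw [Sieve.pullback_bot]
    refine sigma_ι_disjoint F (fun e => his (e ▸ hj) : j ≠ i) (res g t) t' ?_
    rw [app_res]
    exact ht'.symm
  · rintro ⟨hF, hfin⟩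
    haveI := hfin.to_subtype
    refine qc_of_finite_js (π := fun i : {i | IsEmpty (F i ≅ ⊥_ (Sh J))} => Sigma.ι F i.1) ?_ fun i => hF i
    intro U s
    refine ((js_sigma_ι F) U s).bind ?_
    rintro V g ⟨i, t, ht⟩
    by_cases hi : IsEmpty (F i ≅ ⊥_ (Sh J))
    · exact Loc.of_forall fun V' g' => ⟨⟨i, hi⟩, res g' t, by rw [app_res, ht, res_comp]⟩
    · rw [not_isEmpty_iff] at hi
      exact ⟨⊥, isNull_of_isInitial (IsInitial.ofIso initialIsInitial hi.some.symm) V t, fun _ _ h => h.elim⟩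

lemma qs_sigma (h : ∀ i, IsQS (F i)) : IsQS (∐ F) :=
  qs_of_cover (js_sigma_ι F) h (qchom_sigma_ι F)

lemma qchom_cofan_inj {c : Cofan F} (hc : IsColimit c) (i : ι) : IsQCHom (c.inj i) ∧ Mono (c.inj i) := by
  have h : c.inj i = Sigma.ι F i ≫ ((colimit.isColimit _).coconePointUniqueUpToIso hc).hom :=
    ((colimit.isColimit _).comp_coconePointUniqueUpToIso_hom hc ⟨i⟩).symm
  rw [h]
  exact ⟨qchom_comp (qchom_sigma_ι F i) (qchom_of_iso _), mono_comp _ _⟩

end Coprod

/-- quasi-separatedness of a morphism from a cover of the source by quasi-compact morphisms -/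
lemma qshom_of_cover_source {g : Y ⟶ Z} {ι : Type u} {F : ι → Sh J} {f : ∀ i, F i ⟶ Y} (hf : JS f)
    (hqc : ∀ i, IsQCHom (f i)) (hqs : ∀ i, IsQSHom (f i ≫ g)) : IsQSHom g := by
  let σ := fun p : ι × ι => pullback.map (f p.1 ≫ g) (f p.2 ≫ g) g g (f p.1) (f p.2) (𝟙 Z)
    (Category.comp_id _) (Category.comp_id _)
  refine qchom_of_local (g := σ) ?_ (fun W hW p b => ⟨PUnit, fun _ => pullback b (σ p), fun _ => 𝟙 _,
    fun _ => qc_of_iso (pullbackSymmetry _ _) (qchom_prod (hqc p.1) (hqc p.2) W b hW), js_of_epi _⟩) fun p => ?_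
  · intro U s
    refine (hf U (app (pullback.fst g g) s)).bind ?_
    rintro V k ⟨i, t, ht⟩
    refine (hf V (res k (app (pullback.snd g g) s))).mono ?_
    rintro W k' ⟨i', t', ht'⟩
    obtain ⟨q, h₁, h₂⟩ := exists_pullback_el (f i ≫ g) (f i' ≫ g) (res k' t) t' (by
      rw [app_comp, app_comp, ht', app_res (f i), ht, app_res, app_res, app_res, app_res, pullback_el_condition])
    refine ⟨(i, i'), q, pullback_el_ext _ _ ?_ ?_⟩
    · rw [← app_comp, pullback.lift_fst, app_comp, h₁, app_res, ht, app_res, res_comp]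
    · rw [← app_comp, pullback.lift_snd, app_comp, h₂, ht', app_res, res_comp]
  · have hP := pullback_map_diagonal_isPullback (f p.1) (f p.2) g
    rw [← hP.isoPullback_inv_snd]
    refine qchom_comp (qchom_of_iso _) (qchom_of_comp (g := pullback.snd (f p.1 ≫ g) (f p.2 ≫ g)) (qshom_snd _ (hqs p.1)) ?_)
    rw [pullback.lift_snd, Category.comp_id]
    exact qchom_snd _ (hqc p.1)

/-- quasi-separatedness of a morphism out of a quasi-separated object -/
lemma qshom_of_qs {f : X ⟶ Y} (hE : GenBy (J := J) IsQC) {ι : Type u} {Xi : ι → Sh J} {g : ∀ i, Xi i ⟶ X}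
    (hg : JS g) (hqc : ∀ i, IsQC (Xi i)) (hqs : ∀ i j, IsQS (pullback (g i ≫ f) (g j ≫ f))) (hX : IsQS X) :
    IsQSHom f := by
  let σ := fun p : ι × ι => pullback.map (g p.1 ≫ f) (g p.2 ≫ f) f f (g p.1) (g p.2) (𝟙 Y)
    (Category.comp_id _) (Category.comp_id _)
  refine qchom_of_local (g := σ) ?_ (fun W _ p b => hE _) fun p => ?_
  · intro U s
    refine (hg U (app (pullback.fst f f) s)).bind ?_
    rintro V k ⟨i, t, ht⟩
    refine (hg V (res k (app (pullback.snd f f) s))).mono ?_
    rintro W k' ⟨i', t', ht'⟩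
    obtain ⟨q, h₁, h₂⟩ := exists_pullback_el (g i ≫ f) (g i' ≫ f) (res k' t) t' (by
      rw [app_comp, app_comp, ht', app_res (g i), ht, app_res, app_res, app_res, app_res, pullback_el_condition])
    refine ⟨(i, i'), q, pullback_el_ext _ _ ?_ ?_⟩
    · rw [← app_comp, pullback.lift_fst, app_comp, h₁, app_res, ht, app_res, res_comp]
    · rw [← app_comp, pullback.lift_snd, app_comp, h₂, ht', app_res, res_comp]
  · have hP := pullback_map_diagonal_isPullback (g p.1) (g p.2) f
    rw [← hP.isoPullback_inv_snd]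
    exact qchom_comp (qchom_of_iso _) (qchom_of_qc_to_qs _ (hX _ _ _ _ (hqc _) (hqc _)) (hqs _ _))

end Groth.Agent.QCTopos
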