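import Groth.Agent.QCTopos.Sections
import Mathlib.CategoryTheory.Limits.Shapes.Diagonal

/-!
Quasi-compact and quasi-separated objects and morphisms in a topos of sheaves of sets.
-/

set_option backward.isDefEq.respectTransparency false
set_option backward.isDefEq.respectTransparency.types false
set_option linter.style.haveILetI false
set_option linter.unusedSectionVars false
set_option autoImplicit false
set_option maxHeartbeats 1000000

universe u w

namespace Groth.Agent.QCTopos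

open CategoryTheory Limits Opposite
open ToposFin
open Groth.Agent.PullFlat (Loc)

variable {C : Type u} [SmallCategory C] {J : GrothendieckTopology C} {X Y Z : Sh J}

lemma qc_iff : IsQC X ↔ ∀ (ι : Type u) (F : ι → Sh J) (π : ∀ i, F i ⟶ X), JS π →
    ∃ s : Finset ι, JS fun i : s => π i := by
  simp only [IsQC, epi_desc_iff]

/-- finitely many quasi-compact objects covering `X` -/
lemma qc_of_finite_js {ι : Type w} [Finite ι] {F : ι → Sh J} {π : ∀ i, F i ⟶ X} (h : JS π) (hF : ∀ i, IsQC (F i)) :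
    IsQC X := by
  classical
  rw [qc_iff]
  intro κ G σ hσ
  choose s hs using fun i => qc_iff.1 (hF i) κ _ _ (hσ.pullback_snd (π i))
  haveI := Fintype.ofFinite ι
  refine ⟨Finset.univ.biUnion s, fun U x => ?_⟩
  refine (h U x).bind ?_
  rintro V g ⟨i, t, ht⟩
  refine (hs i V t).mono ?_
  rintro W g' ⟨j, p, hp⟩
  refine ⟨⟨j.1, Finset.mem_biUnion.2 ⟨i, Finset.mem_univ i, j.2⟩⟩, app (pullback.fst (σ j.1) (π i)) p, ?_⟩
  rw [pullback_el_condition]
  rw [hp, app_res, ht, res_comp]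

lemma qc_of_epi (f : X ⟶ Y) [Epi f] (h : IsQC X) : IsQC Y :=
  qc_of_finite_js (ι := PUnit.{1}) (js_of_epi f) fun _ => h

lemma qc_of_iso (e : X ≅ Y) (h : IsQC X) : IsQC Y := qc_of_epi e.hom h

lemma qc_of_isNull (h : IsNull X) : IsQC X :=
  qc_iff.2 fun _ _ _ _ => ⟨∅, fun U s => ⟨⊥, h U s, fun _ _ hg => hg.elim⟩⟩

/-- every object is covered by objects with property `P` -/
def GenBy (P : Sh J → Prop) : Prop :=
  ∀ X : Sh J, ∃ (ι : Type u) (F : ι → Sh J) (π : ∀ i, F i ⟶ X), (∀ i, P (F i)) ∧ JS π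

lemma genBy_of_hasQCGenerators (hE : HasQCGenerators J) : GenBy (J := J) IsQC := fun X => by
  obtain ⟨ι, F, π, hF, hπ⟩ := hE X
  exact ⟨ι, F, π, hF, epi_desc_iff.1 hπ⟩

lemma hasQCGenerators_of_genBy {P : Sh J → Prop} (h : GenBy P) (hP : ∀ K, P K → IsQC K) : HasQCGenerators J := fun X => by
  obtain ⟨ι, F, π, hF, hπ⟩ := h X
  exact ⟨ι, F, π, fun i => hP _ (hF i), epi_desc_iff.2 hπ⟩

lemma genBy_of_family {α : Type u} (G : α → Sh J)
    (hgen : ∀ X : Sh J, ∃ (ι : Type u) (a : ι → α) (π : ∀ i, G (a i) ⟶ X), Epi (Sigma.desc π)) :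
    GenBy (J := J) fun K => ∃ a, K = G a := fun X => by
  obtain ⟨ι, a, π, hπ⟩ := hgen X
  exact ⟨ι, fun i => G (a i), π, fun i => ⟨a i, rfl⟩, epi_desc_iff.1 hπ⟩

lemma genBy_of_isGenerating {S : Set (Sh J)} (h : IsGenerating S) : GenBy (J := J) (· ∈ S) := fun X => by
  obtain ⟨ι, F, π, hF, hπ⟩ := h X
  exact ⟨ι, F, π, hF, js_of_cancel hπ⟩

lemma GenBy.exists_finite {P : Sh J → Prop} (h : GenBy P) (hX : IsQC X) :
    ∃ (ι : Type u) (_ : Finite ι) (F : ι → Sh J) (π : ∀ i, F i ⟶ X), (∀ i, P (F i)) ∧ JS π := by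
  obtain ⟨ι, F, π, hF, hπ⟩ := h X
  obtain ⟨s, hs⟩ := qc_iff.1 hX ι F π hπ
  exact ⟨s, inferInstance, fun i => F i, fun i => π i, fun i => hF i, hs⟩

lemma exists_finite_js {ι : Type u} {F : ι → Sh J} {π : ∀ i, F i ⟶ X} (hX : IsQC X) (h : JS π) :
    ∃ (κ : Type u) (_ : Finite κ) (a : κ → ι), JS fun k => π (a k) := by
  obtain ⟨s, hs⟩ := qc_iff.1 hX ι F π h
  exact ⟨s, inferInstance, Subtype.val, hs⟩

section Hom

lemma qc_pullback_of_isPullback {P Y' : Sh J} {p : P ⟶ X} {q : P ⟶ Y'} {f : X ⟶ Y} {g : Y' ⟶ Y}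
    (h : IsPullback p q f g) (hP : IsQC (pullback f g)) : IsQC P :=
  qc_of_iso h.isoPullback.symm hP

lemma qchom_use {P Y' : Sh J} {p : P ⟶ X} {q : P ⟶ Y'} {f : X ⟶ Y} {g : Y' ⟶ Y}
    (hf : IsQCHom f) (h : IsPullback p q f g) (hY' : IsQC Y') : IsQC P :=
  qc_pullback_of_isPullback h (hf Y' g hY')

lemma qchom_baseChange {X' Y' : Sh J} {p : X' ⟶ X} {f' : X' ⟶ Y'} {f : X ⟶ Y} {g : Y' ⟶ Y}
    (h : IsPullback p f' f g) (hf : IsQCHom f) : IsQCHom f' := fun W k hW =>
  qchom_use hf ((IsPullback.of_hasPullback f' k).paste_horiz h) hW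

lemma qchom_snd {f : X ⟶ Y} {Y' : Sh J} (g : Y' ⟶ Y) (hf : IsQCHom f) : IsQCHom (pullback.snd f g) :=
  qchom_baseChange (IsPullback.of_hasPullback f g) hf

lemma qchom_fst {f : X ⟶ Y} {Y' : Sh J} (g : Y' ⟶ Y) (hf : IsQCHom f) : IsQCHom (pullback.fst g f) :=
  qchom_baseChange (IsPullback.of_hasPullback g f).flip hf

lemma qchom_comp {f : X ⟶ Y} {g : Y ⟶ Z} (hf : IsQCHom f) (hg : IsQCHom g) : IsQCHom (f ≫ g) := fun W k hW =>
  qc_of_iso (pullbackLeftPullbackSndIso k g f ≪≫ pullbackSymmetry _ _)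
    (qc_of_iso (pullbackSymmetry _ _) (hf _ (pullback.snd k g) (qc_of_iso (pullbackSymmetry _ _) (hg W k hW))))

lemma qchom_of_iso (f : X ⟶ Y) [IsIso f] : IsQCHom f := fun W k hW =>
  qc_of_iso (asIso (pullback.snd f k)).symm hW

lemma qchom_of_comp_mono {f : X ⟶ Y} {m : Y ⟶ Z} [Mono m] (h : IsQCHom (f ≫ m)) : IsQCHom f := fun W k hW => by
  refine qchom_use h (p := pullback.fst f k) (q := pullback.snd f k) (g := k ≫ m) ?_ hW
  exact ⟨⟨by rw [← Category.assoc, pullback.condition, Category.assoc]⟩,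
    ⟨PullbackCone.IsLimit.mk _ (fun s => pullback.lift s.fst s.snd ((cancel_mono m).1 (by simpa using s.condition)))
      (fun s => pullback.lift_fst _ _ _) (fun s => pullback.lift_snd _ _ _)
      fun s l h₁ h₂ => pullback.hom_ext (by simpa using h₁) (by simpa using h₂)⟩⟩

/-- base change of diagonals -/
lemma isPullback_diagonal {X' Y' : Sh J} {p : X' ⟶ X} {f' : X' ⟶ Y'} {f : X ⟶ Y} {g : Y' ⟶ Y}
    (h : IsPullback p f' f g) :
    IsPullback p (pullback.diagonal f') (pullback.diagonal f) (pullback.map f' f' f f p p g h.w.symm h.w.symm) := by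
  refine ⟨⟨by apply pullback.hom_ext <;> simp⟩, ⟨PullbackCone.IsLimit.mk _ (fun s => s.snd ≫ pullback.fst f' f') ?_ ?_ ?_⟩⟩
  · intro s
    have h1 := congrArg (· ≫ pullback.fst f f) s.condition
    simpa using h1.symm
  · intro s
    have h1 := congrArg (· ≫ pullback.fst f f) s.condition
    have h2 := congrArg (· ≫ pullback.snd f f) s.condition
    simp only [Category.assoc, pullback.diagonal_fst, pullback.diagonal_snd, Category.comp_id, pullback.lift_fst, pullback.lift_snd] at h1 h2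
    apply pullback.hom_ext
    · simp
    · simp only [Category.assoc, pullback.diagonal_snd, Category.comp_id]
      refine h.hom_ext ?_ ?_
      · simpa using h1.symm.trans h2
      · simp [pullback.condition]
  · intro s l h₁ h₂
    have := congrArg (· ≫ pullback.fst f' f') h₂
    simpa using this

lemma qshom_baseChange {X' Y' : Sh J} {p : X' ⟶ X} {f' : X' ⟶ Y'} {f : X ⟶ Y} {g : Y' ⟶ Y}
    (h : IsPullback p f' f g) (hf : IsQSHom f) : IsQSHom f' :=
  qchom_baseChange (isPullback_diagonal h) hf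

lemma qshom_snd {f : X ⟶ Y} {Y' : Sh J} (g : Y' ⟶ Y) (hf : IsQSHom f) : IsQSHom (pullback.snd f g) :=
  qshom_baseChange (IsPullback.of_hasPullback f g) hf

lemma qshom_comp {f : X ⟶ Y} {g : Y ⟶ Z} (hf : IsQSHom f) (hg : IsQSHom g) : IsQSHom (f ≫ g) := by
  unfold IsQSHom
  rw [pullback.diagonal_comp]
  exact qchom_comp hf (qchom_comp (qchom_of_iso _) (qchom_snd _ hg))

lemma qshom_of_mono (f : X ⟶ Y) [Mono f] : IsQSHom f := by
  haveI : IsIso (pullback.diagonal f) := (pullback.isIso_diagonal_iff f).2 inferInstance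
  exact qchom_of_iso _

lemma qshom_of_comp {f : X ⟶ Y} {g : Y ⟶ Z} (h : IsQSHom (f ≫ g)) : IsQSHom f := by
  unfold IsQSHom at h
  rw [pullback.diagonal_comp] at h
  exact qchom_of_comp_mono h

/-- cancellation through a quasi-separated morphism -/
lemma qchom_of_comp {f : X ⟶ Y} {g : Y ⟶ Z} (hg : IsQSHom g) (h : IsQCHom (f ≫ g)) : IsQCHom f := by
  have hΓ := qchom_baseChange (pullback_lift_diagonal_isPullback f g) hg
  have := qchom_comp hΓ (qchom_snd g h)
  rwa [pullback.lift_snd] at this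

lemma qchom_prod {X' Y' S : Sh J} {f : X ⟶ Y} {f' : X' ⟶ Y'} {a : Y ⟶ S} {a' : Y' ⟶ S} (hf : IsQCHom f) (hf' : IsQCHom f') :
    IsQCHom (pullback.map (f ≫ a) (f' ≫ a') a a' f f' (𝟙 S) (Category.comp_id _) (Category.comp_id _)) := by
  let m₁ := pullback.map (f ≫ a) (f' ≫ a') a (f' ≫ a') f (𝟙 X') (𝟙 S) (Category.comp_id _) (by simp)
  let m₂ := pullback.map a (f' ≫ a') a a' (𝟙 Y) f' (𝟙 S) (by simp) (Category.comp_id _)
  have h₁ : IsPullback (pullback.fst (f ≫ a) (f' ≫ a')) m₁ f (pullback.fst a (f' ≫ a')) :=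
    (IsPullback.of_right (by simpa [m₁] using (IsPullback.of_hasPullback (f ≫ a) (f' ≫ a')).flip) (by simp [m₁])
      (IsPullback.of_hasPullback a (f' ≫ a')).flip).flip
  have h₂ : IsPullback (pullback.snd a (f' ≫ a')) m₂ f' (pullback.snd a a') :=
    (IsPullback.of_right (by simpa [m₂] using IsPullback.of_hasPullback a (f' ≫ a')) (by simp [m₂])
      (IsPullback.of_hasPullback a a')).flip
  have := qchom_comp (qchom_baseChange h₁ hf) (qchom_baseChange h₂ hf')
  convert this using 1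
  apply pullback.hom_ext <;> simp [m₁, m₂]

lemma qshom_prod {X' Y' S : Sh J} {f : X ⟶ Y} {f' : X' ⟶ Y'} {a : Y ⟶ S} {a' : Y' ⟶ S} (hf : IsQSHom f) (hf' : IsQSHom f') :
    IsQSHom (pullback.map (f ≫ a) (f' ≫ a') a a' f f' (𝟙 S) (Category.comp_id _) (Category.comp_id _)) := by
  let m₁ := pullback.map (f ≫ a) (f' ≫ a') a (f' ≫ a') f (𝟙 X') (𝟙 S) (Category.comp_id _) (by simp)
  let m₂ := pullback.map a (f' ≫ a') a a' (𝟙 Y) f' (𝟙 S) (by simp) (Category.comp_id _)
  have h₁ : IsPullback (pullback.fst (f ≫ a) (f' ≫ a')) m₁ f (pullback.fst a (f' ≫ a')) :=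
    (IsPullback.of_right (by simpa [m₁] using (IsPullback.of_hasPullback (f ≫ a) (f' ≫ a')).flip) (by simp [m₁])
      (IsPullback.of_hasPullback a (f' ≫ a')).flip).flip
  have h₂ : IsPullback (pullback.snd a (f' ≫ a')) m₂ f' (pullback.snd a a') :=
    (IsPullback.of_right (by simpa [m₂] using IsPullback.of_hasPullback a (f' ≫ a')) (by simp [m₂])
      (IsPullback.of_hasPullback a a')).flip
  have := qshom_comp (qshom_baseChange h₁ hf) (qshom_baseChange h₂ hf')
  convert this using 1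
  apply pullback.hom_ext <;> simp [m₁, m₂]

/-- finite covers of the source -/
lemma qchom_of_cover_source {g : Y ⟶ Z} {ι : Type w} [Finite ι] {F : ι → Sh J} {π : ∀ i, F i ⟶ Y} (h : JS π)
    (hq : ∀ i, IsQCHom (π i ≫ g)) : IsQCHom g := fun W k hW =>
  qc_of_finite_js (h.pullback_snd (pullback.fst g k)) fun i =>
    qc_of_iso (pullbackRightPullbackFstIso g k (π i)).symm (hq i W k hW)

/-- local on the target along quasi-compact morphisms or with quasi-compact generators -/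
lemma qchom_of_local {f : X ⟶ Y} {ι : Type u} {Yi : ι → Sh J} {g : ∀ i, Yi i ⟶ Y} (hg : JS g)
    (hsrc : ∀ (W : Sh J), IsQC W → ∀ (i : ι) (b : W ⟶ Y),
      ∃ (κ : Type u) (A : κ → Sh J) (c : ∀ k, A k ⟶ pullback b (g i)), (∀ k, IsQC (A k)) ∧ JS c)
    (h : ∀ i, IsQCHom (pullback.snd f (g i))) : IsQCHom f := by
  intro W b hW
  choose κ A c hA hc using fun i => hsrc W hW i b
  have h1 : JS fun q : Σ i, κ i => c q.1 q.2 ≫ pullback.fst b (g q.1) := (hg.pullback_fst b).sigma hc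
  obtain ⟨s, hs, a, hJ⟩ := exists_finite_js hW h1
  refine qc_of_finite_js (hJ.pullback_fst (pullback.snd f b)) fun k => ?_
  let j := (a k).1
  let c' := c j (a k).2
  have hP : IsQC (pullback f (c' ≫ pullback.snd b (g j) ≫ g j)) := by
    refine qchom_use (h j) (((IsPullback.of_hasPullback (pullback.snd f (g j)) (c' ≫ pullback.snd b (g j))))) (hA j _) |>
      qc_of_iso ?_
    refine pullbackLeftPullbackSndIso _ _ _ ≪≫ pullback.congrHom rfl (Category.assoc _ _ _)
  refine qc_of_iso ?_ hP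
  refine pullback.congrHom rfl ?_ ≪≫ (pullbackLeftPullbackSndIso f b (c' ≫ pullback.fst b (g j))).symm
  rw [Category.assoc, pullback.condition]

lemma qshom_of_local {f : X ⟶ Y} {ι : Type u} {Yi : ι → Sh J} {g : ∀ i, Yi i ⟶ Y} (hg : JS g)
    (hE : GenBy (J := J) IsQC) (h : ∀ i, IsQSHom (pullback.snd f (g i))) : IsQSHom f := by
  let σ := fun i => pullback.map (pullback.snd f (g i)) (pullback.snd f (g i)) f f (pullback.fst f (g i))
    (pullback.fst f (g i)) (g i) pullback.condition.symm pullback.condition.symm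
  refine qchom_of_local (g := σ) ?_ (fun W _ i b => hE _) fun i => ?_
  · intro U s
    refine (hg U (app f (app (pullback.fst f f) s))).mono ?_
    rintro V k ⟨i, t, ht⟩
    obtain ⟨p₁, h₁, h₁'⟩ := exists_pullback_el f (g i) (res k (app (pullback.fst f f) s)) t (by rw [app_res, ht])
    obtain ⟨p₂, h₂, h₂'⟩ := exists_pullback_el f (g i) (res k (app (pullback.snd f f) s)) t
      (by rw [app_res, ht, pullback_el_condition])
    obtain ⟨p, hp₁, hp₂⟩ := exists_pullback_el (pullback.snd f (g i)) (pullback.snd f (g i)) p₁ p₂ (by rw [h₁', h₂'])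
    refine ⟨i, p, pullback_el_ext _ _ ?_ ?_⟩
    · rw [← app_comp, pullback.lift_fst, app_comp, hp₁, h₁, app_res]
    · rw [← app_comp, pullback.lift_snd, app_comp, hp₂, h₂, app_res]
  · have hP := isPullback_diagonal (IsPullback.of_hasPullback f (g i))
    rw [← hP.isoPullback_inv_snd]
    exact qchom_comp (qchom_of_iso _) (h i)

end Hom

end Groth.Agent.QCTopos
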