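import Groth.Agent.PullFlat.Local
import Groth.Prelude.Def_ToposFin2

/-!
Sheaves of sets on a site: jointly surjective families, elements of fibre products, coproducts.
-/

set_option backward.isDefEq.respectTransparency false
set_option backward.isDefEq.respectTransparency.types false
set_option linter.style.haveILetI false
set_option linter.unusedSectionVars false
set_option autoImplicit false
set_option maxHeartbeats 1000000

universe u w w'

namespace Groth.Agent.QCTopos

open CategoryTheory Limits Opposite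
open Groth.Agent.PullFlat (Loc rep univ)

variable {C : Type u} [SmallCategory C] {J : GrothendieckTopology C}

/-- sections -/
abbrev el (X : ToposFin.Sh J) (U : C) : Type u := X.obj.obj (op U)

/-- restriction -/
abbrev res {X : ToposFin.Sh J} {V U : C} (g : V ⟶ U) (s : el X U) : el X V := X.obj.map g.op s

/-- a map on sections -/
abbrev app {X Y : ToposFin.Sh J} (f : X ⟶ Y) {U : C} (s : el X U) : el Y U := f.hom.app (op U) s

lemma res_comp {X : ToposFin.Sh J} {U V W : C} (g : V ⟶ U) (h : W ⟶ V) (s : el X U) :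
    res h (res g s) = res (h ≫ g) s := by
  simp [res]

lemma res_id {X : ToposFin.Sh J} {U : C} (s : el X U) : res (𝟙 U) s = s := by simp [res]

lemma app_res {X Y : ToposFin.Sh J} (f : X ⟶ Y) {V U : C} (g : V ⟶ U) (s : el X U) :
    app f (res g s) = res g (app f s) :=
  NatTrans.naturality_apply f.hom g.op s

lemma app_comp {X Y Z : ToposFin.Sh J} (f : X ⟶ Y) (g : Y ⟶ Z) {U : C} (s : el X U) :
    app (f ≫ g) s = app g (app f s) := rfl

lemma el_ext {X : ToposFin.Sh J} {U : C} {s t : el X U} (h : Loc J U fun _ g => res g s = res g t) : s = t := by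
  obtain ⟨S, hS, hS'⟩ := h
  exact (((isSheaf_iff_isSheaf_of_type J X.obj).1 X.2) S hS).isSeparatedFor.ext fun U' g hg => hS' g hg

lemma hom_ext_el {X Y : ToposFin.Sh J} {f g : X ⟶ Y} (h : ∀ (U : C) (s : el X U), app f s = app g s) : f = g :=
  Sheaf.hom_ext (NatTrans.ext (funext fun U => ConcreteCategory.hom_ext _ _ fun s => h U.unop s))

/-- the map out of a sheafified representable given by a section -/
noncomputable def toEl {X : ToposFin.Sh J} {U : C} (s : el X U) : ToposFin.eps J U ⟶ X := PullFlat.lift s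

lemma toEl_univ {X : ToposFin.Sh J} {U : C} (s : el X U) : app (toEl s) (univ J U) = s := PullFlat.lift_univ s

lemma toEl_ext {X : ToposFin.Sh J} {U : C} {a b : ToposFin.eps J U ⟶ X}
    (h : app a (univ J U) = app b (univ J U)) : a = b := PullFlat.rep_hom_ext h

lemma toEl_comp {X Y : ToposFin.Sh J} (f : X ⟶ Y) {U : C} (s : el X U) : toEl s ≫ f = toEl (app f s) :=
  toEl_ext (by rw [app_comp, toEl_univ, toEl_univ])

section Pullback

variable {X Y S : ToposFin.Sh J} (f : X ⟶ S) (g : Y ⟶ S)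

lemma exists_pullback_el {U : C} (s : el X U) (t : el Y U) (h : app f s = app g t) :
    ∃ p : el (pullback f g) U, app (pullback.fst f g) p = s ∧ app (pullback.snd f g) p = t := by
  let a := pullback.lift (toEl s) (toEl t) (by rw [toEl_comp, toEl_comp, h]) (f := f) (g := g)
  refine ⟨app a (univ J U), ?_, ?_⟩
  · rw [← app_comp, pullback.lift_fst, toEl_univ]
  · rw [← app_comp, pullback.lift_snd, toEl_univ]

lemma pullback_el_ext {U : C} {p q : el (pullback f g) U} (h₁ : app (pullback.fst f g) p = app (pullback.fst f g) q)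
    (h₂ : app (pullback.snd f g) p = app (pullback.snd f g) q) : p = q := by
  rw [← toEl_univ p, ← toEl_univ q]
  refine congrArg (fun a => app a (univ J U)) (pullback.hom_ext ?_ ?_)
  · rw [toEl_comp, toEl_comp, h₁]
  · rw [toEl_comp, toEl_comp, h₂]

lemma pullback_el_condition {U : C} (p : el (pullback f g) U) :
    app f (app (pullback.fst f g) p) = app g (app (pullback.snd f g) p) := by
  rw [← app_comp, ← app_comp, pullback.condition]

end Pullback

/-- jointly surjective -/
def JS {ι : Type w} {F : ι → ToposFin.Sh J} {X : ToposFin.Sh J} (π : ∀ i, F i ⟶ X) : Prop :=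
  ∀ (U : C) (s : el X U), Loc J U fun V g => ∃ (i : ι) (t : el (F i) V), app (π i) t = res g s

section JS

variable {ι : Type w} {κ : Type w'} {F : ι → ToposFin.Sh J} {X : ToposFin.Sh J} {π : ∀ i, F i ⟶ X}

lemma JS.cancel (h : JS π) {Z : ToposFin.Sh J} {a b : X ⟶ Z} (hab : ∀ i, π i ≫ a = π i ≫ b) : a = b := by
  refine hom_ext_el fun U s => el_ext ((h U s).mono ?_)
  rintro V g ⟨i, t, ht⟩
  rw [← app_res, ← app_res, ← ht, ← app_comp, ← app_comp, hab]

/-- jointly epimorphic families are jointly surjective -/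
theorem js_of_cancel (h : ∀ (Z : ToposFin.Sh J) (a b : X ⟶ Z), (∀ i, π i ≫ a = π i ≫ b) → a = b) : JS π := by
  let T₀ : Subfunctor X.obj :=
    { obj := fun V => {t | ∃ (i : ι) (x : el (F i) V.unop), app (π i) x = t}
      map := fun {V W} g t ⟨i, x, hx⟩ => ⟨i, res g.unop x, by rw [app_res, hx]; rfl⟩ }
  have hX : Presieve.IsSheaf J X.obj := (isSheaf_iff_isSheaf_of_type J X.obj).1 X.2
  let T : ToposFin.Sh J := ⟨(T₀.sheafify J).toFunctor,
    (isSheaf_iff_isSheaf_of_type J _).2 (T₀.sheafify_isSheaf hX)⟩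
  let m : T ⟶ X := ⟨(T₀.sheafify J).ι⟩
  have hπ : ∀ i, ∃ l : F i ⟶ T, l ≫ m = π i := fun i =>
    ⟨⟨{ app := fun V => ↾fun x => ⟨app (π i) x, T₀.le_sheafify J _ ⟨i, x, rfl⟩⟩
        naturality := fun V W g => by
          ext x
          exact Subtype.ext (app_res (π i) g.unop x) }⟩, rfl⟩
  haveI : Epi m := ⟨fun a b hab => h _ a b fun i => by
    obtain ⟨l, hl⟩ := hπ i
    rw [← hl, Category.assoc, Category.assoc, hab]⟩
  haveI : Sheaf.IsLocallySurjective m := (Sheaf.isLocallySurjective_iff_epi m).2 inferInstance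
  intro U s
  refine (Loc.of_mem (Presheaf.imageSieve_mem J m.hom (U := op U) s)).bind ?_
  rintro V g ⟨⟨t, ht⟩, hm⟩
  have ht' : t = res g s := hm
  subst ht'
  refine (Loc.of_mem ht).mono ?_
  rintro W a ⟨i, x, hx⟩
  exact ⟨i, x, hx.trans (res_comp g a s)⟩

theorem js_iff_cancel : JS π ↔ ∀ (Z : ToposFin.Sh J) (a b : X ⟶ Z), (∀ i, π i ≫ a = π i ≫ b) → a = b :=
  ⟨fun h _ _ _ => h.cancel, js_of_cancel⟩

theorem epi_desc_iff [HasCoproduct F] : Epi (Sigma.desc π) ↔ JS π := by
  rw [js_iff_cancel]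
  refine ⟨fun h Z a b hab => (cancel_epi (Sigma.desc π)).1 (Sigma.hom_ext _ _ fun i => by simp [hab]),
    fun h => ⟨fun a b hab => h _ a b fun i => ?_⟩⟩
  simpa using congrArg (Sigma.ι F i ≫ ·) hab

lemma JS.of_factor {G : κ → ToposFin.Sh J} {σ : ∀ j, G j ⟶ X} (h : JS σ) (a : κ → ι) (u : ∀ j, G j ⟶ F (a j))
    (hu : ∀ j, u j ≫ π (a j) = σ j) : JS π := fun U s => (h U s).mono fun V g ⟨j, t, ht⟩ =>
  ⟨a j, app (u j) t, by rw [← app_comp, hu, ht]⟩

lemma JS.of_factor_exists {G : κ → ToposFin.Sh J} {σ : ∀ j, G j ⟶ X} (h : JS σ)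
    (hu : ∀ j, ∃ (i : ι) (u : G j ⟶ F i), u ≫ π i = σ j) : JS π := by
  choose a u hu using hu
  exact h.of_factor a u hu

lemma JS.comp (h : JS π) {G : κ → ToposFin.Sh J} {a : κ → ι} (σ : ∀ j, G j ⟶ F (a j))
    (hσ : ∀ i, ∀ (U : C) (t : el (F i) U), Loc J U fun V g => ∃ (j : κ) (x : el (G j) V), app (σ j ≫ π (a j)) x = res g (app (π i) t)) :
    JS fun j => σ j ≫ π (a j) := by
  intro U s
  refine (h U s).bind ?_
  rintro V g ⟨i, t, ht⟩
  refine (hσ i V t).mono ?_
  rintro W g' ⟨j, x, hx⟩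
  exact ⟨j, x, by rw [hx, ht, res_comp]⟩

lemma JS.sigma (h : JS π) {κ : ι → Type w'} {G : ∀ i, κ i → ToposFin.Sh J} {σ : ∀ i j, G i j ⟶ F i}
    (hσ : ∀ i, JS (σ i)) : JS fun p : Σ i, κ i => σ p.1 p.2 ≫ π p.1 := by
  intro U s
  refine (h U s).bind ?_
  rintro V g ⟨i, t, ht⟩
  refine (hσ i V t).mono ?_
  rintro W g' ⟨j, x, hx⟩
  exact ⟨⟨i, j⟩, x, by rw [app_comp, hx, app_res, ht, res_comp]⟩

lemma JS.postcomp_epi (h : JS π) {Y : ToposFin.Sh J} (f : X ⟶ Y) [Epi f] : JS fun i => π i ≫ f :=
  js_of_cancel fun Z a b hab => (cancel_epi f).1 (h.cancel fun i => by simpa using hab i)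

/-- base change of a jointly surjective family -/
lemma JS.pullback_snd (h : JS π) {X' : ToposFin.Sh J} (q : X' ⟶ X) :
    JS fun i => pullback.snd (π i) q := by
  intro U s
  refine (h U (app q s)).mono ?_
  rintro V g ⟨i, t, ht⟩
  obtain ⟨p, -, hp⟩ := exists_pullback_el (π i) q t (res g s) (by rw [ht, app_res])
  exact ⟨i, p, hp⟩

lemma JS.pullback_fst (h : JS π) {X' : ToposFin.Sh J} (q : X' ⟶ X) :
    JS fun i => pullback.fst q (π i) := by
  intro U s
  refine (h U (app q s)).mono ?_
  rintro V g ⟨i, t, ht⟩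
  obtain ⟨p, hp, -⟩ := exists_pullback_el q (π i) (res g s) t (by rw [ht, app_res])
  exact ⟨i, p, hp⟩

lemma js_of_epi {Y : ToposFin.Sh J} (f : Y ⟶ X) [Epi f] : JS fun _ : PUnit.{w + 1} => f :=
  js_of_cancel fun _ _ _ hab => (cancel_epi f).1 (hab PUnit.unit)

/-- every object is covered by sheafified representables -/
lemma js_el (X : ToposFin.Sh J) : JS fun p : Σ U : C, el X U => toEl p.2 :=
  fun U s => Loc.of_forall fun V g => ⟨⟨V, res g s⟩, univ J V, toEl_univ _⟩

end JS

section Sigma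

variable {ι : Type u} (F : ι → ToposFin.Sh J)

/-- no non-empty sections -/
def IsNull (X : ToposFin.Sh J) : Prop := ∀ (U : C), el X U → (⊥ : Sieve U) ∈ J U

lemma el_subsingleton_of_bot {X : ToposFin.Sh J} {U : C} (h : (⊥ : Sieve U) ∈ J U) : Subsingleton (el X U) :=
  ⟨fun s t => el_ext ⟨⊥, h, fun V g hg => hg.elim⟩⟩

lemma js_sigma_ι : JS fun i => Sigma.ι F i :=
  js_of_cancel fun _ _ _ hab => Sigma.hom_ext _ _ hab

open Classical in
/-- a test object separating a summand -/
lemma exists_test (i : ι) :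
    ∃ (T : ToposFin.Sh J) (χ : ∐ F ⟶ T), ∀ (U : C) (t : el (F i) U),
      (∀ t' : el (F i) U, app (Sigma.ι F i ≫ χ) t = app (Sigma.ι F i ≫ χ) t' → t = t') ∧
      ∀ j, j ≠ i → ∀ t' : el (F j) U, app (Sigma.ι F i ≫ χ) t = app (Sigma.ι F j ≫ χ) t' → (⊥ : Sieve U) ∈ J U := by
  let P : Cᵒᵖ ⥤ Type u :=
    { obj := fun V => el (F i) V.unop ⊕ PUnit.{u + 1}
      map := fun g => ↾fun x => Sum.map (res g.unop) id x
      map_id := fun V => by
        refine ConcreteCategory.hom_ext _ _ fun x => ?_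
        rcases x with x | x
        · exact congrArg Sum.inl (res_id x)
        · rfl
      map_comp := fun g h => by
        refine ConcreteCategory.hom_ext _ _ fun x => ?_
        rcases x with x | x
        · exact congrArg Sum.inl (res_comp g.unop h.unop x).symm
        · rfl }
  let T : ToposFin.Sh J := (presheafToSheaf J (Type u)).obj P
  let η := toSheafify J P
  let inl : F i ⟶ T := ⟨{ app := fun V => ↾fun x => η.app V (Sum.inl x : el (F i) V.unop ⊕ PUnit.{u + 1})
                          naturality := fun V W g => by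
                            ext x
                            exact (NatTrans.naturality_apply η g (Sum.inl x : el (F i) V.unop ⊕ PUnit.{u + 1})) }⟩
  let inr : ∀ j, F j ⟶ T := fun j =>
    ⟨{ app := fun V => ↾fun _ => η.app V (Sum.inr PUnit.unit : el (F i) V.unop ⊕ PUnit.{u + 1})
       naturality := fun V W g => by
        ext x
        exact (NatTrans.naturality_apply η g (Sum.inr PUnit.unit : el (F i) V.unop ⊕ PUnit.{u + 1})) }⟩
  refine ⟨T, Sigma.desc fun j => if h : j = i then eqToHom (congrArg F h) ≫ inl else inr j, fun U t => ⟨fun t' h => ?_, fun j hj t' h => ?_⟩⟩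
  · simp only [Sigma.ι_desc, ↓reduceDIte, eqToHom_refl, Category.id_comp] at h
    refine el_ext ?_
    refine (Loc.of_mem (Presheaf.equalizerSieve_mem J η (X := op U) (show P.obj (op U) from Sum.inl t) (show P.obj (op U) from Sum.inl t') h)).mono ?_
    intro V g hg
    exact Sum.inl_injective hg
  · simp only [Sigma.ι_desc, ↓reduceDIte, dif_neg hj, eqToHom_refl, Category.id_comp] at h
    refine J.superset_covering ?_ (Presheaf.equalizerSieve_mem J η (X := op U) (show P.obj (op U) from Sum.inl t) (show P.obj (op U) from Sum.inr PUnit.unit) h)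
    intro V g hg
    exact (Sum.inl_ne_inr hg).elim

lemma sigma_ι_injective (i : ι) {U : C} (t t' : el (F i) U) (h : app (Sigma.ι F i) t = app (Sigma.ι F i) t') :
    t = t' := by
  obtain ⟨T, χ, hχ⟩ := exists_test F i
  exact (hχ U t).1 t' (congrArg (fun x => app χ x) h)

lemma sigma_ι_disjoint {i j : ι} (hij : j ≠ i) {U : C} (t : el (F i) U) (t' : el (F j) U)
    (h : app (Sigma.ι F i) t = app (Sigma.ι F j) t') : (⊥ : Sieve U) ∈ J U := by
  obtain ⟨T, χ, hχ⟩ := exists_test F i
  exact (hχ U t).2 j hij t' (congrArg (fun x => app χ x) h)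

instance mono_sigma_ι (i : ι) : Mono (Sigma.ι F i) :=
  ⟨fun a b h => hom_ext_el fun U s => sigma_ι_injective F i _ _ (by rw [← app_comp, ← app_comp, h])⟩

lemma isNull_of_isInitial {X : ToposFin.Sh J} (hX : IsInitial X) : IsNull X := by
  intro U s
  let P : Cᵒᵖ ⥤ Type u := (Functor.const _).obj PEmpty
  let E : ToposFin.Sh J := (presheafToSheaf J (Type u)).obj P
  refine J.superset_covering ?_ (Presheaf.imageSieve_mem J (toSheafify J P) (U := op U) (app (hX.to E) s))
  rintro V g ⟨x, -⟩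
  exact x.elim

lemma isInitial_of_isNull {X : ToposFin.Sh J} (hX : IsNull X) : Nonempty (IsInitial X) := by
  have hex : ∀ (Z : ToposFin.Sh J) (U : C) (s : el X U), ∃ z : el Z U, True := fun Z U s => by
    obtain ⟨z, -, -⟩ := ((isSheaf_iff_isSheaf_of_type J Z.obj).1 Z.2) ⊥ (hX U s) (fun V g hg => hg.elim)
      (fun _ _ _ _ _ _ _ h => h.elim)
    exact ⟨z, trivial⟩
  choose z _ using hex
  refine ⟨IsInitial.ofUniqueHom (fun Z => ⟨{ app := fun V => ↾fun s => z Z V.unop s, naturality := fun V W g => ?_ }⟩) ?_⟩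
  · ext s
    exact (el_subsingleton_of_bot (hX W.unop (res g.unop s))).elim _ _
  · intro Z m
    refine hom_ext_el fun U s => ?_
    exact (el_subsingleton_of_bot (hX U s)).elim _ _

end Sigma

end Groth.Agent.QCTopos
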